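/-
The facts about the presented Fischer group used for two commuting transpositions.
-/
import Mathlib
import Cfsg.Agent.H93.Fi22Order
import Cfsg.Agent.H96.Fi22Out

set_option autoImplicit false

namespace H33.Triple

open Cfsg

theorem finite_fi22 : Finite Cfsg.Spor.Fi22 :=
  Nat.finite_of_card_ne_zero (by rw [H93.Fi22Order.isFi22.2]; norm_num)

theorem simple_fi22 : IsSimpleGroup Cfsg.Spor.Fi22 := H93.Fi22Order.isFi22.1

theorem not_comm_fi22 : ¬ IsMulCommutative Cfsg.Spor.Fi22 := by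
  intro h
  haveI := simple_fi22
  haveI := finite_fi22
  letI : CommGroup Cfsg.Spor.Fi22 :=
    { (inferInstance : Group Cfsg.Spor.Fi22) with mul_comm := h.is_comm.comm }
  have hp := IsSimpleGroup.prime_card (α := Cfsg.Spor.Fi22)
  rw [H93.Fi22Order.isFi22.2] at hp
  norm_num at hp

theorem center_fi22 : Subgroup.center Cfsg.Spor.Fi22 = ⊥ := by
  rcases simple_fi22.eq_bot_or_eq_top_of_normal (Subgroup.center Cfsg.Spor.Fi22) inferInstance with
    h | h
  · exact h
  · exact absurd ⟨⟨fun x y => Subgroup.mem_center_iff.1 (h ▸ Subgroup.mem_top y) x⟩⟩ not_comm_fi22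

theorem perfect_fi22 : commutator Cfsg.Spor.Fi22 = ⊤ := by
  rcases simple_fi22.eq_bot_or_eq_top_of_normal (commutator Cfsg.Spor.Fi22) inferInstance with h | h
  · rw [commutator_eq_bot_iff_center_eq_top, center_fi22] at h
    haveI := simple_fi22
    exact absurd h bot_ne_top
  · exact h

theorem card_mulAut_fi22 :
    Nat.card (MulAut Cfsg.Spor.Fi22) = 2 * Nat.card Cfsg.Spor.Fi22 := by
  haveI := finite_fi22
  have h1 := Subgroup.card_eq_card_quotient_mul_card_subgroup (Cfsg.Inn Cfsg.Spor.Fi22)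
  have h2 : Nat.card (MulAut Cfsg.Spor.Fi22 ⧸ Cfsg.Inn Cfsg.Spor.Fi22) = 2 := H96.Fi22Out.card_out
  have h3 : (MulAut.conj (G := Cfsg.Spor.Fi22)).ker = ⊥ := by
    rw [eq_bot_iff, ← center_fi22]
    intro g hg
    refine Subgroup.mem_center_iff.2 fun x => ?_
    have := congrArg (fun e : MulAut Cfsg.Spor.Fi22 => e x) (MonoidHom.mem_ker.1 hg)
    simp only [MulAut.conj_apply, MulAut.one_apply] at this
    exact (mul_inv_eq_iff_eq_mul.1 this).symm
  have h4 : Nat.card (Cfsg.Inn Cfsg.Spor.Fi22) = Nat.card Cfsg.Spor.Fi22 :=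
    (Nat.card_congr (MonoidHom.ofInjective ((MonoidHom.ker_eq_bot_iff _).1 h3)).toEquiv).symm
  rw [h1, h2, h4]

end H33.Triple
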