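/-
Two commuting transpositions at type M(24): the map of their joint centraliser onto a group of
type M(22).
-/
import Cfsg.Agent.H33.Triple.Main
import Cfsg.Agent.H5.TT.Lines

set_option autoImplicit false

namespace H33.Triple

open Cfsg H5.TT H5.TT.Fac H44.Fischer
open scoped commutatorElement

universe u

section six

variable {Y : Type u} [Group Y] [Finite Y] {E : Set Y}

/-- At type M(22) there are six distinct commuting members with product one. -/
theorem exists_six (hE : IsThreeTranspositionGroup E) (hp : IsPrimitiveUnderConj E)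
    (h22 : IsOfTypeM22 Y E) :
    ∃ v : Fin 6 → Y, Function.Injective v ∧ (∀ i, v i ∈ E) ∧ (∀ i j, Commute (v i) (v j)) ∧
      v 0 * v 1 * v 2 * v 3 * v 4 * v 5 = 1 := by
  obtain ⟨hZ, d, hd, c, -, -, ⟨F, hFi, hFf, hFc, ⟨e⟩⟩, -⟩ := h22
  have hF : Fintype.card F = 2 ^ 2 := by rw [hFc]; norm_num
  have hcl := H99.class_of_primitive hE hp
  have hU := exists_coord hE e hF (fun s hs => hp.1 d hd s hs)
  have hdesc : ∀ a ∈ E, Desc E a := fun a ha => by
    obtain ⟨U⟩ := hU a ha
    exact (top_desc hE hp ha (U.nc hF)).2.2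
  obtain ⟨t, A, B, hN⟩ := exists_nine hF hE.1 hE.2.1 e
  have pb : t 0 ∈ H99.perp E d := hN.mem _ (Or.inl (Or.inl ⟨0, rfl⟩))
  have pc : t 1 ∈ H99.perp E d := hN.mem _ (Or.inl (Or.inl ⟨1, rfl⟩))
  have cbc : Commute (t 0) (t 1) :=
    hN.comm _ (Or.inl (Or.inl ⟨0, rfl⟩)) _ (Or.inl (Or.inl ⟨1, rfl⟩))
  have hbc : t 0 ≠ t 1 := fun h => absurd
    (Sum.inl_injective (hN.inj (a₁ := Sum.inl 0) (a₂ := Sum.inl 1) h)) (by decide)
  generalize t 0 = b at pb cbc hbc
  generalize t 1 = c' at pc cbc hbc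
  obtain ⟨p, q, r, hp', hq', hr', hpq, hpr, hqr, hone, -⟩ :=
    exists_hexad hF hcl hp hZ hdesc hU hd pb pc hbc cbc
  have cp : ∀ {x}, OnLine E d b c' x → Commute x d ∧ Commute x b ∧ Commute x c' := fun hx =>
    ⟨hx.1.2.2.symm, (hx.2.2.2 b pb (Commute.refl b) cbc).symm,
      (hx.2.2.2 c' pc cbc.symm (Commute.refl c')).symm⟩
  have cc : ∀ {x z}, OnLine E d b c' x → OnLine E d b c' z → Commute x z := fun hx hz =>
    hz.2.2.2 _ hx.1 (cp hx).2.1 (cp hx).2.2
  obtain ⟨ap, bp, kp⟩ := cp hp'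
  obtain ⟨aq, bq, kq⟩ := cp hq'
  obtain ⟨ar, br, kr⟩ := cp hr'
  refine ⟨![d, b, c', p, q, r], ?_, ?_, ?_, hone⟩
  · have e1 := pb.2.1; have e2 := pc.2.1; have e3 := hp'.1.2.1; have e4 := hq'.1.2.1
    have e5 := hr'.1.2.1; have e6 := hp'.2.1; have e7 := hq'.2.1; have e8 := hr'.2.1
    have e9 := hp'.2.2.1; have e10 := hq'.2.2.1; have e11 := hr'.2.2.1
    intro i j h
    fin_cases i <;> fin_cases j <;> first | rfl | (exfalso; simp_all)
  · intro i
    fin_cases i <;> first | exact hd | exact pb.1 | exact pc.1 | exact hp'.1.1 | exact hq'.1.1 |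
      exact hr'.1.1
  · intro i j
    have x1 := pb.2.2; have x2 := pc.2.2; have x3 := cc hp' hq'; have x4 := cc hp' hr'
    have x5 := cc hq' hr'
    fin_cases i <;> fin_cases j <;>
      first
      | exact Commute.refl _
      | assumption
      | exact Commute.symm (by assumption)

end six

variable {G : Type u} [Group G] [Finite G] {D : Set G}

/-- Groups of type M(22) are isomorphic to `M`. -/
def UniqueM22 (M : Type*) [Group M] : Prop :=
  ∀ (Y : Type u) [Group Y] [Finite Y] (E : Set Y), IsThreeTranspositionGroup E →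
    IsPrimitiveUnderConj E → IsOfTypeM22 Y E → Nonempty (Y ≃* M)

/-- What the joint centraliser of two commuting members looks like. -/
def PairData (D : Set G) (M : Type*) [Group M] (a b : G) : Prop :=
  (∃ ψ : ↥(Subgroup.centralizer ({a, b} : Set G)) →* M, Function.Surjective ψ ∧
    ∀ k, ψ k = 1 ↔ (k : G) ∈ Subgroup.closure ({a, b} : Set G)) ∧
  a * b ∈ (commutator ↥(Subgroup.centralizer ({a, b} : Set G))).map
    (Subgroup.centralizer ({a, b} : Set G)).subtype ∧
  ∃ x ∈ D, x ≠ a ∧ x ≠ b ∧ Commute a x ∧ Commute b x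

omit [Finite G] in
theorem mem_two {a b g : G} :
    g ∈ Subgroup.centralizer ({a, b} : Set G) ↔ Commute g a ∧ Commute g b := by
  rw [Subgroup.mem_centralizer_iff]
  simp only [Set.mem_insert_iff, Set.mem_singleton_iff, forall_eq_or_imp, forall_eq]
  exact ⟨fun h => ⟨h.1.symm, h.2.symm⟩, fun h => ⟨h.1.symm, h.2.symm⟩⟩

omit [Finite G] in
theorem mem_closure_two {a b g : G} (haa : a * a = 1) (hbb : b * b = 1) (hab : Commute a b)
    (hg : g ∈ Subgroup.closure ({a, b} : Set G)) : g = 1 ∨ g = a ∨ g = b ∨ g = a * b := by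
  induction hg using Subgroup.closure_induction with
  | mem x hx => rcases hx with rfl | rfl <;> simp
  | one => simp
  | mul x y _ _ hx hy =>
    have e1 : a * (a * b) = b := by rw [← mul_assoc, haa, one_mul]
    have e2 : b * (a * b) = a := by rw [hab.eq, ← mul_assoc, hbb, one_mul]
    have e3 : a * b * a = b := by rw [hab.eq, mul_assoc, haa, mul_one]
    have e4 : a * b * b = a := by rw [mul_assoc, hbb, mul_one]
    have e5 : a * b * (a * b) = 1 := by rw [← mul_assoc, e3, hbb]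
    rcases hx with rfl | rfl | rfl | rfl <;> rcases hy with rfl | rfl | rfl | rfl <;>
      simp [haa, hbb, e1, e2, e3, e4, e5, hab.symm.eq]
  | inv x _ hx =>
    have ha' : a⁻¹ = a := inv_eq_of_mul_eq_one_right haa
    have hb' : b⁻¹ = b := inv_eq_of_mul_eq_one_right hbb
    rcases hx with rfl | rfl | rfl | rfl <;> simp [ha', hb', hab.symm.eq]

/-- The base pair. -/
theorem exists_pair_base (hD : IsThreeTranspositionGroup D) (hp : IsPrimitiveUnderConj D)
    (h24 : IsOfTypeM24 G D) (h6 : NoSix D) (hnot : ∀ d ∈ D, d ∉ commutator G)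
    {M : Type*} [Group M] (hiso : UniqueM22.{u} M) :
    ∃ d ∈ D, ∃ y ∈ H99.perp D d, PairData D M d y := by
  obtain ⟨d, hd, hXl, hpX, hgX, hX⟩ := exists_base hD hp h24
  have hdesc := (m24_local hD hp h24).desc d hd
  have hL := m24_local hD hp h24
  obtain ⟨s, hs, hdesc2, hpY, hY⟩ := H65.Fischer.m23_down hgX hpX hX
  obtain ⟨y, hy, rfl⟩ := exists_of_mem hs
  have hgY := H99.class_toGroup (qD_class hdesc2)
  obtain ⟨e⟩ := hiso _ _ hgY hpY hY
  refine ⟨d, hd, y, hy, ?_⟩
  set C := Subgroup.centralizer ({d, y} : Set G) with hC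
  have hdd := H99.tt_mul_self hdesc.tt hd
  have hyy := H99.tt_mul_self hdesc.tt hy.1
  have hCH : C ≤ Subgroup.closure (H99.perp D d) := fun g hg => by
    rw [← hL.cent d hd, Subgroup.mem_centralizer_singleton_iff]
    exact (mem_two.1 hg).1.eq
  let π : C →* Down D d := (QuotientGroup.mk' _).comp (Subgroup.inclusion hCH)
  set M2 := Subgroup.closure (H99.perp (qD D d) (im hy)) with hM2
  have hπ : ∀ k, π k ∈ M2 := fun k => by
    rw [hM2, ← hXl.cent _ hs, Subgroup.mem_centralizer_singleton_iff]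
    simp only [π, im, MonoidHom.comp_apply, QuotientGroup.mk'_apply, ← QuotientGroup.mk_mul]
    exact congrArg QuotientGroup.mk (Subtype.ext (mem_two.1 k.2).2.eq)
  let π2 : C →* Down (qD D d) (im hy) := (QuotientGroup.mk' _).comp (π.codRestrict M2 hπ)
  have hπs : Function.Surjective π2 := by
    refine (QuotientGroup.mk'_surjective _).comp ?_
    rintro ⟨m, hm⟩
    obtain ⟨⟨h, hh⟩, rfl⟩ := QuotientGroup.mk_surjective m
    have hcs := H99.perpIns_commute (H99.perp_closure_le hm)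
    have hy' := perp_closure_conj hdesc hh hy
    have hfix : h * y * h⁻¹ = y := im_inj hdesc hy' hy (by
      rw [show im hy' = (QuotientGroup.mk ⟨h, hh⟩ : Down D d) * im hy * (QuotientGroup.mk ⟨h, hh⟩)⁻¹
        from rfl, hcs.eq, mul_inv_cancel_right])
    exact ⟨⟨h, mem_two.2 ⟨H99.perpIns_commute (H99.perp_closure_le hh),
      mul_inv_eq_iff_eq_mul.1 hfix⟩⟩, rfl⟩
  have hdC : d ∈ C := mem_two.2 ⟨Commute.refl d, hy.2.2⟩
  have hyC : y ∈ C := mem_two.2 ⟨hy.2.2.symm, Commute.refl y⟩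
  have hπd : π ⟨d, hdC⟩ = 1 := (mk_eq_one (hCH hdC)).2 fun w hw => hw.2.2
  have hk1 : ∀ k : C, π k = 1 → (k : G) = 1 ∨ (k : G) = d := fun k hk =>
    mem_zpowers_involution hdd (hL.ker d hd _ (mem_two.1 k.2).1 ((mk_eq_one (hCH k.2)).1 hk))
  have hsmem : im hy * im hy = 1 := H99.tt_mul_self hdesc2.tt hs
  have hker : ∀ k, π2 k = 1 ↔ (k : G) ∈ Subgroup.closure ({d, y} : Set G) := by
    intro k
    show (QuotientGroup.mk ⟨π k, hπ k⟩ : Down (qD D d) (im hy)) = 1 ↔ _
    rw [mk_eq_one (hπ k)]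
    constructor
    · intro hk
      rcases mem_zpowers_involution hsmem (hXl.ker _ hs _
        (H99.perpIns_commute (H99.perp_closure_le (hπ k))) hk) with h | h
      · rcases hk1 k h with h' | h'
        · exact h' ▸ one_mem _
        · exact h' ▸ Subgroup.subset_closure (Or.inl rfl)
      · have h' := hk1 (⟨y, hyC⟩⁻¹ * k) (by
          rw [map_mul, map_inv, h]
          exact inv_mul_cancel _)
        rw [Subgroup.coe_mul, Subgroup.coe_inv] at h'
        rcases h' with h' | h'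
        · rw [← inv_mul_eq_one.1 h']; exact Subgroup.subset_closure (Or.inr rfl)
        · rw [inv_mul_eq_iff_eq_mul.1 h']
          exact mul_mem (Subgroup.subset_closure (Or.inr rfl)) (Subgroup.subset_closure (Or.inl rfl))
    · intro hk w hw
      have hsw : Commute (im hy) w := hw.2.2
      rcases mem_closure_two hdd hyy hy.2.2 hk with h | h | h | h
      · rw [show k = 1 from Subtype.ext h, map_one]; exact Commute.one_left w
      · rw [show k = ⟨d, hdC⟩ from Subtype.ext h, hπd]; exact Commute.one_left w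
      · rw [show k = ⟨y, hyC⟩ from Subtype.ext h]; exact hsw
      · rw [show k = ⟨d, hdC⟩ * ⟨y, hyC⟩ from Subtype.ext h, map_mul, hπd, one_mul]; exact hsw
  obtain ⟨v, hvinj, hvE, hvc, hv1⟩ := exists_six hgY hpY hY
  have hlift : ∀ z ∈ qD (qD D d) (im hy), ∃ x, ∃ hx : x ∈ H99.perp D d, ∃ hxC : x ∈ C,
      im hx ∈ H99.perp (qD D d) (im hy) ∧ π2 ⟨x, hxC⟩ = z := by
    intro z hz
    obtain ⟨w, hw, rfl⟩ := exists_of_mem hz
    obtain ⟨x, hx, rfl⟩ := exists_of_mem hw.1
    exact ⟨x, hx, mem_two.2 ⟨hx.2.2.symm, ((im_commute hdesc hy hx).1 hw.2.2).symm⟩, hw, rfl⟩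
  choose x hx hxC hxw hxv using fun i => hlift (v i) (hvE i)
  let X : Fin 6 → C := fun i => ⟨x i, hxC i⟩
  have hxinj : Function.Injective x := fun i j h => hvinj (by
    rw [← hxv i, ← hxv j]
    exact congrArg π2 (Subtype.ext h))
  have hxc : ∀ i j, Commute (x i) (x j) := fun i j => by
    rw [← im_commute hdesc (hx i) (hx j), ← im_commute hdesc2 (hxw i) (hxw j)]
    have := hvc i j
    rwa [← hxv i, ← hxv j] at this
  have hP : π2 (X 0 * X 1 * X 2 * X 3 * X 4 * X 5) = 1 := by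
    simp only [map_mul, X, hxv, hv1]
  have hPL : x 0 * x 1 * x 2 * x 3 * x 4 * x 5 ∈ commutator G := by
    have h2 : ∀ i j, x i * x j ∈ commutator G := fun i j =>
      (parity hD hp (hx j).1 (x i)).resolve_left (hnot _ (hx i).1)
    have := mul_mem (mul_mem (h2 0 1) (h2 2 3)) (h2 4 5)
    simpa [mul_assoc] using this
  have hP' : x 0 * x 1 * x 2 * x 3 * x 4 * x 5 = d * y := by
    rcases mem_closure_two hdd hyy hy.2.2 ((hker _).1 hP) with h | h | h | h
    · exfalso
      change x 0 * x 1 * x 2 * x 3 * x 4 * x 5 = 1 at h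
      refine h6 (x 0) (x 1) (x 2) (x 3) (x 4) (x 5) ?_ ?_ ?_ ?_
      · simp [hxinj.eq_iff]
      · simp [(hx _).1]
      · simp [hxc]
      · refine eq_of_six (triple_inv hdesc.tt (hx 3).1 (hx 4).1 (hx 5).1 (hxc 3 4) (hxc 3 5)
          (hxc 4 5)).2 ?_
        simpa [mul_assoc] using h
    · exact absurd (h ▸ hPL) (hnot d hd)
    · exact absurd (h ▸ hPL) (hnot y hy.1)
    · exact h
  refine ⟨⟨e.toMonoidHom.comp π2, e.surjective.comp hπs, fun k => by simp [hker]⟩, ?_,
    x 0, (hx 0).1, (hx 0).2.1, fun he => (hxw 0).2.1 ?_, (hx 0).2.2,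
    ((mem_two.1 (hxC 0)).2).symm⟩
  swap
  · simp only [← he]
  let f : C →* Abelianization C := Abelianization.of
  have hcl : ∀ i, f (X i) = f (X 0) := by
    intro i
    obtain ⟨m, hm⟩ := hpY.1 (v 0) (hvE 0) (v i) (hvE i)
    obtain ⟨k, rfl⟩ := hπs m
    have hx' := perp_closure_conj hdesc (hCH k.2) (hx 0)
    have hxC' : (k : G) * x 0 * (k : G)⁻¹ ∈ C := (k * X 0 * k⁻¹).2
    have hw' : im hx' ∈ H99.perp (qD D d) (im hy) :=
      perp_closure_conj hdesc2 (hπ k) (hxw 0)
    have h2 : im hx' = im (hx i) := im_inj hdesc2 hw' (hxw i) (by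
      have : π2 (k * X 0 * k⁻¹) = π2 (X i) := by
        simp only [map_mul, map_inv, X, hxv, hm]
      exact this)
    have he : X i = k * X 0 * k⁻¹ := Subtype.ext (im_inj hdesc hx' (hx i) h2).symm
    rw [he, map_mul, map_mul, map_inv, mul_comm (f k), mul_inv_cancel_right]
  have hsq : f (X 0) * f (X 0) = 1 := by
    rw [← map_mul, show X 0 * X 0 = 1 from Subtype.ext (H99.tt_mul_self hdesc.tt (hx 0).1), map_one]
  have hfP : f (X 0 * X 1 * X 2 * X 3 * X 4 * X 5) = 1 := by
    simp only [map_mul, hcl 1, hcl 2, hcl 3, hcl 4, hcl 5, hsq, one_mul]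
  refine ⟨X 0 * X 1 * X 2 * X 3 * X 4 * X 5, ?_, hP'⟩
  rw [← Abelianization.ker_of]
  exact hfP

end H33.Triple
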