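/-
Two commuting transpositions at type M(24): the centraliser of their product in the derived
subgroup.
-/
import Cfsg.Agent.H33.Triple.PairBase

set_option autoImplicit false

namespace H33.Triple

open Cfsg H5.TT H5.TT.Fac H44.Fischer
open scoped commutatorElement

universe u

variable {G : Type u} [Group G] {D : Set G}

/-- The pair data transport along automorphisms. -/
theorem PairData.map {M : Type*} [Group M] {a b : G} (e : G ≃* G) (he : ∀ x, e x ∈ D → x ∈ D)
    (h : PairData D M (e a) (e b)) : PairData D M a b := by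
  obtain ⟨⟨ψ, hs, hk⟩, hj, x, hx, hxa, hxb, cax, cbx⟩ := h
  have hC : (Subgroup.centralizer ({a, b} : Set G)).map e.toMonoidHom =
      Subgroup.centralizer ({e a, e b} : Set G) := by
    ext z
    obtain ⟨z, rfl⟩ := e.surjective z
    simp only [Subgroup.mem_map, MulEquiv.coe_toMonoidHom, e.injective.eq_iff, exists_eq_right,
      mem_two]
    exact ⟨fun h => ⟨h.1.map e, h.2.map e⟩, fun h =>
      ⟨h.1.of_map e.injective, h.2.of_map e.injective⟩⟩
  have hV : (Subgroup.closure ({a, b} : Set G)).map e.toMonoidHom =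
      Subgroup.closure ({e a, e b} : Set G) := by
    rw [MonoidHom.map_closure, Set.image_pair]; rfl
  let f : ↥(Subgroup.centralizer ({a, b} : Set G)) ≃* ↥(Subgroup.centralizer ({e a, e b} : Set G)) :=
    ((Subgroup.centralizer ({a, b} : Set G)).equivMapOfInjective e.toMonoidHom e.injective).trans
      (MulEquiv.subgroupCongr hC)
  have hfe : ∀ k, ((f k : ↥(Subgroup.centralizer ({e a, e b} : Set G))) : G) = e (k : G) :=
    fun k => rfl
  refine ⟨⟨ψ.comp f.toMonoidHom, hs.comp f.surjective, fun k => ?_⟩, ?_, e.symm x,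
    he _ (by simpa using hx), fun h => hxa (by simp [← h]), fun h => hxb (by simp [← h]), ?_, ?_⟩
  · show ψ (f k) = 1 ↔ _
    rw [hk, ← hV, hfe]
    simp
  · obtain ⟨t, ht, hte⟩ := hj
    have h1 : (commutator _).map f.toMonoidHom = commutator _ := by
      rw [commutator_def, Subgroup.map_commutator,
        Subgroup.map_top_of_surjective _ f.surjective, ← commutator_def]
    rw [← h1] at ht
    obtain ⟨w, hw, rfl⟩ := ht
    refine ⟨w, hw, e.injective ?_⟩
    rw [map_mul, ← hte]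
    exact (hfe w).symm
  · simpa using cax.map e.symm
  · simpa using cbx.map e.symm

variable [Finite G]

/-- The data at every pair. -/
theorem exists_pair (hD : IsThreeTranspositionGroup D) (hp : IsPrimitiveUnderConj D)
    (h24 : IsOfTypeM24 G D) (h6 : NoSix D) (hnot : ∀ d ∈ D, d ∉ commutator G)
    {M : Type*} [Group M] (hiso : UniqueM22.{u} M) {a b : G} (ha : a ∈ D) (hb : b ∈ D)
    (hab : a ≠ b) (cab : Commute a b) : PairData D M a b := by
  obtain ⟨d, hd, y, hy, h⟩ := exists_pair_base hD hp h24 h6 hnot hiso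
  have hdesc := (m24_local hD hp h24).desc d hd
  obtain ⟨g, hg⟩ := hp.1 a ha d hd
  have hgb : g * b * g⁻¹ ∈ H99.perp D d := ⟨hD.2.1 g b hb,
    fun e' => hab (mul_left_cancel (mul_right_cancel (hg.trans e'.symm))),
    by rw [← hg]; exact (H99.conj_commute_iff g a b).2 cab⟩
  obtain ⟨k, hk, hky⟩ := hdesc.trans _ hgb _ hy
  refine PairData.map (MulAut.conj (k * g)) (fun x hx => ?_) ?_
  · have := hD.2.1 (k * g)⁻¹ _ hx
    rw [MulAut.conj_apply] at this
    convert this using 1
    group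
  · rw [MulAut.conj_apply, MulAut.conj_apply,
      show k * g * a * (k * g)⁻¹ = k * (g * a * g⁻¹) * k⁻¹ by group, hg,
      (H99.perpIns_commute (H99.perp_closure_le hk)).eq, mul_inv_cancel_right,
      show k * g * b * (k * g)⁻¹ = k * (g * b * g⁻¹) * k⁻¹ by group, hky]
    exact h

/-- The main statement. -/
theorem pair_main (hD : IsThreeTranspositionGroup D) (hp : IsPrimitiveUnderConj D)
    (h24 : IsOfTypeM24 G D) (h6 : NoSix D) (hnot : ∀ d ∈ D, d ∉ commutator G)
    {M : Type*} [Group M] [Finite M] [hS : IsSimpleGroup M] (hMc : Subgroup.center M = ⊥)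
    (hMp : commutator M = ⊤) (hAut : Nat.card (MulAut M) = 2 * Nat.card M)
    (hiso : UniqueM22.{u} M) {a b : G} (ha : a ∈ D) (hb : b ∈ D) (hab : a ≠ b)
    (cab : Commute a b) (K CL : Subgroup G)
    (hK : K = commutator G ⊓ Subgroup.centralizer ({a, b} : Set G))
    (hCL : CL = commutator G ⊓ Subgroup.centralizer ({a * b} : Set G))
    [hn : ((Subgroup.zpowers (a * b)).subgroupOf CL).Normal] :
    IsQuasisimple ↥K ∧ K = (generalizedFittingSubgroup ↥CL).map CL.subtype ∧ K ≤ CL ∧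
      (K.subgroupOf CL).index = 2 ∧ a * b ∈ K ∧
      Nonempty (↥CL ⧸ (Subgroup.zpowers (a * b)).subgroupOf CL ≃* MulAut M) := by
  have hPD := exists_pair hD hp h24 h6 hnot hiso ha hb hab cab
  unfold PairData at hPD
  have hT := hD.1
  have hV : NoTwin D :=
    fun x hx v hv => H99.prim_vRel_eq (H99.class_of_primitive hD hp) hp hx hv
  have haa := H99.tt_mul_self hT ha
  have hbb := H99.tt_mul_self hT hb
  set C := Subgroup.centralizer ({a, b} : Set G) with hC
  obtain ⟨⟨ψ, hψs, hψk⟩, hj, x₀, hx₀, hxa, hxb, cax, cbx⟩ := hPD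
  have haC : a ∈ C := mem_two.2 ⟨Commute.refl a, cab⟩
  have hmemK : ∀ g, g ∈ K ↔ g ∈ commutator G ∧ g ∈ C := fun g => by rw [hK]; rfl
  have hmemCL : ∀ g, g ∈ CL ↔ g ∈ commutator G ∧ Commute g (a * b) := fun g => by
    rw [hCL, Subgroup.mem_inf, Subgroup.mem_centralizer_singleton_iff]
    rfl
  have hψa : ψ ⟨a, haC⟩ = 1 := (hψk _).2 (Subgroup.subset_closure (Or.inl rfl))
  set K1 : Subgroup G := ⁅C, C⁆ with hK1
  have hsub : (commutator ↥C).map C.subtype = K1 := by
    rw [commutator_def, Subgroup.map_commutator, ← MonoidHom.range_eq_map, Subgroup.range_subtype]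
  have hK1K : K1 ≤ K := Subgroup.commutator_le.2 fun x hx y hy => (hmemK _).2
    ⟨commutator_def G ▸ Subgroup.commutator_mem_commutator (Subgroup.mem_top x) (Subgroup.mem_top y),
      (commutatorElement_def x y).symm ▸ mul_mem (mul_mem (mul_mem hx hy) (inv_mem hx)) (inv_mem hy)⟩
  rw [hsub] at hj
  have hjK := hK1K hj
  have hKV : ∀ k ∈ K, k ∈ Subgroup.closure ({a, b} : Set G) → k = 1 ∨ k = a * b := by
    intro k hk hkV
    have hkL := ((hmemK k).1 hk).1
    rcases mem_closure_two haa hbb cab hkV with h | h | h | h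
    · exact Or.inl h
    · exact absurd (h ▸ hkL) (hnot a ha)
    · exact absurd (h ▸ hkL) (hnot b hb)
    · exact Or.inr h
  have hKeq : K = K1 := by
    refine le_antisymm (fun k hk => ?_) hK1K
    have hkC := ((hmemK k).1 hk).2
    have h1 : (commutator ↥C).map ψ = ⊤ := by
      rw [commutator_def, Subgroup.map_commutator, Subgroup.map_top_of_surjective _ hψs,
        ← commutator_def, hMp]
    obtain ⟨t, ht, hte⟩ : ψ ⟨k, hkC⟩ ∈ (commutator ↥C).map ψ := h1 ▸ Subgroup.mem_top _
    have htK1 : (t : G) ∈ K1 := hsub ▸ ⟨t, ht, rfl⟩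
    have h2 := (hψk (t⁻¹ * ⟨k, hkC⟩)).1 (by rw [map_mul, map_inv, hte, inv_mul_cancel])
    rw [Subgroup.coe_mul, Subgroup.coe_inv] at h2
    rcases hKV _ (mul_mem (inv_mem (hK1K htK1)) hk) h2 with e | e
    · exact inv_mul_eq_one.1 e ▸ htK1
    · exact inv_mul_eq_iff_eq_mul.1 e ▸ mul_mem htK1 hj
  have hdec : ∀ g ∈ C, ∃ t ∈ K, g = t ∨ g = t * a := by
    intro g hg
    rcases parity hD hp ha g with h | h
    · exact ⟨g, (hmemK g).2 ⟨h, hg⟩, Or.inl rfl⟩
    · exact ⟨g * a, (hmemK _).2 ⟨h, mul_mem hg haC⟩, Or.inr (by rw [mul_assoc, haa, mul_one])⟩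
  have hperf : commutator ↥K = ⊤ := by
    refine Subgroup.map_injective K.subtype_injective ?_
    rw [commutator_def, Subgroup.map_commutator, ← MonoidHom.range_eq_map, Subgroup.range_subtype]
    refine le_antisymm (Subgroup.commutator_le.2 fun x hx y hy => ?_) ?_
    · rw [commutatorElement_def]
      exact mul_mem (mul_mem (mul_mem hx hy) (inv_mem hx)) (inv_mem hy)
    conv_lhs => rw [hKeq, hK1]
    refine Subgroup.commutator_le.2 fun x hx y hy => ?_
    obtain ⟨t, ht, hxt⟩ := hdec x hx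
    obtain ⟨u, hu, hyu⟩ := hdec y hy
    have key : ⁅x, y⁆ = ⁅t, u⁆ := by
      have e1 := (mem_two.1 ((hmemK t).1 ht).2).1
      have e2 := (mem_two.1 ((hmemK u).1 hu).2).1
      have hl : ∀ w, Commute w a → ⁅t * a, w⁆ = ⁅t, w⁆ := fun w hw => by
        rw [commutatorElement_def, commutatorElement_def, mul_inv_rev,
          show t * a * w * (a⁻¹ * t⁻¹) * w⁻¹ = t * (a * w) * a⁻¹ * t⁻¹ * w⁻¹ by group, ← hw.eq]
        group
      have hr : ∀ w, Commute w a → ⁅w, u * a⁆ = ⁅w, u⁆ := fun w hw => by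
        rw [commutatorElement_def, commutatorElement_def, mul_inv_rev,
          show w * (u * a) * w⁻¹ * (a⁻¹ * u⁻¹) = w * u * (a * w⁻¹) * a⁻¹ * u⁻¹ by group,
          ← hw.inv_left.eq]
        group
      rcases hxt with rfl | rfl <;> rcases hyu with rfl | rfl
      · rfl
      · exact hr _ e1
      · exact hl _ e2
      · rw [hl _ (e2.mul_left (Commute.refl a)), hr _ e1]
    rw [key]
    exact Subgroup.commutator_mem_commutator ht hu
  -- the map on K
  let ψ1 : ↥K →* M := ψ.comp (Subgroup.inclusion fun g hg => ((hmemK g).1 hg).2)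
  have hψ1s : Function.Surjective ψ1 := by
    intro m
    obtain ⟨g, rfl⟩ := hψs m
    obtain ⟨t, ht, hg⟩ := hdec _ g.2
    refine ⟨⟨t, ht⟩, ?_⟩
    rcases hg with hg | hg
    · exact congrArg ψ (Subtype.ext hg.symm)
    · rw [show g = ⟨t, ((hmemK t).1 ht).2⟩ * ⟨a, haC⟩ from Subtype.ext hg, map_mul, hψa, mul_one]
      rfl
  have hZ : Subgroup.zpowers (a * b) ≤ K := Subgroup.zpowers_le.2 hjK
  have hker1 : ψ1.ker = (Subgroup.zpowers (a * b)).subgroupOf K := by
    ext k
    rw [MonoidHom.mem_ker, Subgroup.mem_subgroupOf]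
    show ψ _ = 1 ↔ _
    rw [hψk]
    refine ⟨fun h => ?_, fun h => ?_⟩
    · rcases hKV _ k.2 h with e | e <;> rw [e]
      · exact one_mem _
      · exact Subgroup.mem_zpowers _
    · have hle : Subgroup.zpowers (a * b) ≤ Subgroup.closure ({a, b} : Set G) :=
        Subgroup.zpowers_le.2 (mul_mem (Subgroup.subset_closure (Set.mem_insert a {b}))
          (Subgroup.subset_closure (Set.mem_insert_of_mem a rfl)))
      exact hle h
  have hcen : Subgroup.center ↥K = ψ1.ker := by
    refine le_antisymm (fun k hk => ?_) (fun k hk => ?_)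
    · have : ψ1 k ∈ Subgroup.center M := Subgroup.mem_center_iff.2 fun m => by
        obtain ⟨m, rfl⟩ := hψ1s m
        rw [← map_mul, ← map_mul, Subgroup.mem_center_iff.1 hk m]
      rw [hMc] at this
      exact MonoidHom.mem_ker.2 this
    · refine Subgroup.mem_center_iff.2 fun m => Subtype.ext ?_
      obtain ⟨e1, e2⟩ := mem_two.1 ((hmemK m).1 m.2).2
      rcases hKV _ k.2 ((hψk _).1 (MonoidHom.mem_ker.1 hk)) with e | e
      · simp [e]
      · simp only [Subgroup.coe_mul, e]
        exact (e1.mul_right e2).eq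
  have hq : IsQuasisimple ↥K := ⟨⟨hperf⟩, ((QuotientGroup.quotientMulEquivOfEq hcen).trans
    (QuotientGroup.quotientKerEquivOfSurjective ψ1 hψ1s)).isSimpleGroup⟩
  have hKCL : K ≤ CL := fun g hg => by
    obtain ⟨h1, h2⟩ := (hmemK g).1 hg
    exact (hmemCL g).2 ⟨h1, (mem_two.1 h2).1.mul_right (mem_two.1 h2).2⟩
  -- the action on the pair
  have hfac : ∀ g ∈ CL, g ∈ K ∨ (g * a * g⁻¹ = b ∧ g * b * g⁻¹ = a) := by
    intro g hg
    obtain ⟨hgL, hgj⟩ := (hmemCL g).1 hg
    have he : a * b = g * a * g⁻¹ * (g * b * g⁻¹) := by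
      calc a * b = g * (a * b) * g⁻¹ := by rw [hgj.eq, mul_inv_cancel_right]
        _ = _ := by group
    rcases H5.TT.Fac.pair_unique hT hV ha hb (hD.2.1 g a ha) (hD.2.1 g b hb) hab
      (fun e => hab (mul_left_cancel (mul_right_cancel e))) cab ((H99.conj_commute_iff g a b).2 cab)
      he with h | h
    · exact Or.inl ((hmemK g).2 ⟨hgL, mem_two.2
        ⟨mul_inv_eq_iff_eq_mul.1 h.1, mul_inv_eq_iff_eq_mul.1 h.2⟩⟩)
    · exact Or.inr h
  have hconj : ∀ g, (g * a * g⁻¹ = b ∧ g * b * g⁻¹ = a) → ∀ k ∈ K, g * k * g⁻¹ ∈ K := by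
    intro g hg k hk
    obtain ⟨hkL, hkC⟩ := (hmemK k).1 hk
    obtain ⟨ka, kb⟩ := mem_two.1 hkC
    refine (hmemK _).2 ⟨Subgroup.Normal.conj_mem inferInstance k hkL g, mem_two.2 ⟨?_, ?_⟩⟩
    · rw [← hg.2]; exact (H99.conj_commute_iff g k b).2 kb
    · rw [← hg.1]; exact (H99.conj_commute_iff g k a).2 ka
  have hxL : x₀ * a ∈ commutator G := (parity hD hp ha x₀).resolve_left (hnot x₀ hx₀)
  have hx₀K : x₀ * a ∈ K := (hmemK _).2 ⟨hxL,
    mem_two.2 ⟨cax.symm.mul_left (Commute.refl a), cbx.symm.mul_left cab⟩⟩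
  have hcK : ∀ g ∈ CL, (∀ k ∈ K, Commute g k) → g ∈ K := by
    intro g hg hgk
    rcases hfac g hg with h | h
    · exact h
    exfalso
    have he : x₀ * a = g * x₀ * g⁻¹ * (g * a * g⁻¹) := by
      calc x₀ * a = g * (x₀ * a) * g⁻¹ := by rw [(hgk _ hx₀K).eq, mul_inv_cancel_right]
        _ = _ := by group
    rcases H5.TT.Fac.pair_unique hT hV hx₀ ha (hD.2.1 g x₀ hx₀) (hD.2.1 g a ha) hxa
      (fun e => hxa (mul_left_cancel (mul_right_cancel e))) cax.symm
      ((H99.conj_commute_iff g x₀ a).2 cax.symm) he with e | e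
    · exact hab (e.2.symm.trans h.1)
    · exact hxb (e.2.symm.trans h.1)
  let N := K.subgroupOf CL
  have hN : N.Normal := ⟨fun n hn g => by
    refine Subgroup.mem_subgroupOf.2 ?_
    rcases hfac g g.2 with h | h
    · exact mul_mem (mul_mem h (Subgroup.mem_subgroupOf.1 hn)) (inv_mem h)
    · exact hconj _ h _ (Subgroup.mem_subgroupOf.1 hn)⟩
  let eN : ↥N ≃* ↥K := Subgroup.subgroupOfEquivOfLe hKCL
  have hcN : Subgroup.centralizer (N : Set ↥CL) ≤ N := fun g hg =>
    Subgroup.mem_subgroupOf.2 (hcK g g.2 fun k hk => by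
      have := congrArg Subtype.val (Subgroup.mem_centralizer_iff.1 hg ⟨k, hKCL hk⟩
        (Subgroup.mem_subgroupOf.2 hk))
      exact this.symm)
  have hqN : IsQuasisimple ↥N := Comp.isQuasisimple_of_equiv eN.symm hq
  -- the index
  obtain ⟨s, hsL, hsa, hsb⟩ : ∃ s ∈ commutator G, s * a * s⁻¹ = b ∧ s * b * s⁻¹ = a := by
    obtain ⟨g, hg⟩ := hp.1 a ha b hb
    have hgb : g * b * g⁻¹ ∈ H99.perp D b :=
      ⟨hD.2.1 g _ hb, fun e => hab (mul_left_cancel (mul_right_cancel (hg.trans e.symm))),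
        by nth_rewrite 1 [← hg]; exact (H99.conj_commute_iff g a b).2 cab⟩
    obtain ⟨k, hk, hka⟩ := ((m24_local hD hp h24).desc b hb).trans _ hgb a ⟨ha, hab, cab.symm⟩
    have e1 : k * g * a * (k * g)⁻¹ = b := by
      rw [show k * g * a * (k * g)⁻¹ = k * (g * a * g⁻¹) * k⁻¹ by group, hg,
        (H99.perpIns_commute (H99.perp_closure_le hk)).eq, mul_inv_cancel_right]
    have e2 : k * g * b * (k * g)⁻¹ = a := by
      rw [← hka]; group
    rcases parity hD hp ha (k * g) with h | h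
    · exact ⟨_, h, e1, e2⟩
    · refine ⟨_, h, ?_, ?_⟩
      · rw [show k * g * a * a * (k * g * a)⁻¹ = k * g * a * (k * g)⁻¹ by group, e1]
      · rw [show k * g * a * b * (k * g * a)⁻¹ = k * g * (a * b * a⁻¹) * (k * g)⁻¹ by group,
          cab.eq, mul_inv_cancel_right, e2]
  have hsCL : s ∈ CL := (hmemCL s).2 ⟨hsL, mul_inv_eq_iff_eq_mul.1 (by
    rw [show s * (a * b) * s⁻¹ = s * a * s⁻¹ * (s * b * s⁻¹) by group, hsa, hsb, cab.eq])⟩
  have hsK : s ∉ K := fun h => hab (by
    have := (mem_two.1 ((hmemK s).1 h).2).1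
    rw [← hsa, this.eq, mul_inv_cancel_right])
  have hidx : (K.subgroupOf CL).index = 2 := by
    rw [Subgroup.index_eq_two_iff]
    refine ⟨⟨s, hsCL⟩, fun g => ?_⟩
    simp only [Subgroup.mem_subgroupOf, Subgroup.coe_mul]
    by_cases hgK : (g : G) ∈ K
    · exact Or.inr ⟨hgK, fun h => hsK ((K.mul_mem_cancel_left hgK).1 h)⟩
    · refine Or.inl ⟨?_, hgK⟩
      have h := (hfac g g.2).resolve_left hgK
      refine (hmemK _).2 ⟨mul_mem ((hmemCL g).1 g.2).1 hsL, mem_two.2 ⟨?_, ?_⟩⟩
      · refine mul_inv_eq_iff_eq_mul.1 ?_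
        rw [show (g : G) * s * a * ((g : G) * s)⁻¹ = (g : G) * (s * a * s⁻¹) * (g : G)⁻¹ by group,
          hsa, h.2]
      · refine mul_inv_eq_iff_eq_mul.1 ?_
        rw [show (g : G) * s * b * ((g : G) * s)⁻¹ = (g : G) * (s * b * s⁻¹) * (g : G)⁻¹ by group,
          hsb, h.1]
  refine ⟨hq, ?_, hKCL, hidx, hjK, ?_⟩
  · rw [fstar_eq N hqN hcN]
    exact (Subgroup.map_subgroupOf_eq_of_le hKCL).symm
  -- the action on M
  let act : ↥CL →* MulAut ↥N := MulAut.conjNormal
  let ψN : ↥N →* M := ψ1.comp eN.toMonoidHom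
  have hψNk : ψN.ker = Subgroup.center ↥N := by
    ext n
    rw [MonoidHom.mem_ker, Subgroup.mem_center_iff]
    show ψ1 (eN n) = 1 ↔ _
    rw [← MonoidHom.mem_ker, ← hcen, Subgroup.mem_center_iff]
    exact ⟨fun h m => eN.injective (by rw [map_mul, map_mul, h]), fun h m => by
      obtain ⟨m, rfl⟩ := eN.surjective m
      rw [← map_mul, ← map_mul, h]⟩
  obtain ⟨Θ, hΘ⟩ := exists_quot_action act ψN (hψ1s.comp eN.surjective) hψNk
    hqN.1.commutator_eq_top
  have hact : act.ker = (Subgroup.zpowers (a * b)).subgroupOf CL := by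
    ext g
    rw [MonoidHom.mem_ker, Subgroup.mem_subgroupOf]
    constructor
    · intro h
      have hgc : ∀ k ∈ K, Commute (g : G) k := fun k hk => by
        have := congrArg (fun e : MulAut ↥N => (((e ⟨⟨k, hKCL hk⟩, Subgroup.mem_subgroupOf.2 hk⟩
          : ↥N) : ↥CL) : G)) h
        simp only [act, MulAut.conjNormal_apply, MulAut.one_apply] at this
        exact mul_inv_eq_iff_eq_mul.1 this
      have hgK := hcK g g.2 hgc
      have : (⟨g, hgK⟩ : ↥K) ∈ Subgroup.center ↥K := Subgroup.mem_center_iff.2 fun m =>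
        Subtype.ext (hgc m m.2).symm.eq
      rw [hcen, hker1] at this
      exact this
    · intro h
      have hgK : (g : G) ∈ K := hZ h
      have hc : (⟨g, hgK⟩ : ↥K) ∈ Subgroup.center ↥K := by rw [hcen, hker1]; exact h
      refine MulEquiv.ext fun n => Subtype.ext (Subtype.ext ?_)
      simp only [act, MulAut.conjNormal_apply, MulAut.one_apply]
      refine mul_inv_eq_iff_eq_mul.2 ?_
      have := congrArg Subtype.val (Subgroup.mem_center_iff.1 hc (eN n))
      exact this.symm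
  have hidx2 : ((Subgroup.zpowers (a * b)).subgroupOf CL).index = 2 * Nat.card M := by
    have h1 := Subgroup.relIndex_mul_relIndex (Subgroup.zpowers (a * b)) K CL hZ hKCL
    have h2 : (Subgroup.zpowers (a * b)).relIndex K = Nat.card M := by
      rw [Subgroup.relIndex, ← hker1, Subgroup.index_ker, MonoidHom.range_eq_top.2 hψ1s,
        Subgroup.card_top]
    show (Subgroup.zpowers (a * b)).relIndex CL = _
    rw [← h1, h2, show K.relIndex CL = 2 from hidx, mul_comm]
  have hΘs : Function.Surjective Θ := by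
    rw [← MonoidHom.range_eq_top]
    refine Subgroup.eq_top_of_card_eq _ ?_
    rw [← Subgroup.index_ker, hΘ, hact, hidx2, hAut]
  exact ⟨(QuotientGroup.quotientMulEquivOfEq (hΘ.trans hact).symm).trans
    (QuotientGroup.quotientKerEquivOfSurjective Θ hΘs)⟩

end H33.Triple
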