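/-
The centraliser of a product of two commuting transpositions at type M(24), given uniqueness of
the groups of type M(22).
-/
import Cfsg.Agent.H33.Triple.PairMain
import Cfsg.Agent.H33.Triple.PairFi22
import Cfsg.Agent.H49.Parity.Commutator

set_option autoImplicit false

namespace H33.Triple

open Cfsg

universe u

/-- The statement S5465, given the uniqueness of the groups of type M(22). -/
theorem pair_final (hiso : UniqueM22.{u} Cfsg.Spor.Fi22) {G : Type u} [Group G] [Finite G]
    {D : Set G} (hD : IsThreeTranspositionGroup D) (hp : IsPrimitiveUnderConj D) {d₀ : G}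
    (hd₀ : d₀ ∈ D)
    (h2 : pCore 2 ↥(Subgroup.closure (H99.perp D d₀)) ≤
      Subgroup.center ↥(Subgroup.closure (H99.perp D d₀)))
    (h3 : pCore 3 ↥(Subgroup.closure (H99.perp D d₀)) ≤
      Subgroup.center ↥(Subgroup.closure (H99.perp D d₀)))
    (h24 : IsOfTypeM24 G D) {a b : G} (ha : a ∈ D) (hb : b ∈ D) (hab : a ≠ b)
    (cab : Commute a b) (K CL : Subgroup G)
    (hK : K = commutator G ⊓ Subgroup.centralizer ({a, b} : Set G))
    (hCL : CL = commutator G ⊓ Subgroup.centralizer ({a * b} : Set G))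
    [hn : ((Subgroup.zpowers (a * b)).subgroupOf CL).Normal] :
    IsQuasisimple ↥K ∧ K = (generalizedFittingSubgroup ↥CL).map CL.subtype ∧ K ≤ CL ∧
      (K.subgroupOf CL).index = 2 ∧ a * b ∈ K ∧
      Nonempty (↥CL ⧸ (Subgroup.zpowers (a * b)).subgroupOf CL ≃* MulAut Cfsg.Spor.Fi22) := by
  haveI := finite_fi22
  haveI := simple_fi22
  exact pair_main hD hp h24 (H5.TT.Fac.noSix_m24 hD hp hd₀ h2 h3 h24)
    (H49.Parity.notMem_commutator hD hp h24) center_fi22 perfect_fi22 card_mulAut_fi22 hiso
    ha hb hab cab K CL hK hCL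

end H33.Triple
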